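import Cfsg.Agent.Lib.Perm.AltDerange.Cases
import Cfsg.Agent.Lib.ClassSizes.AlternatingAut
import Cfsg.Agent.Lib.Perm.Jordan

/-!
# Derangements of largest prime order for groups with alternating socle
-/

set_option autoImplicit false

namespace CfsgLib.Perm.AltDerange

open Equiv MulAction
open scoped Pointwise

variable {G Ω : Type*} [Group G] [MulAction G Ω]

theorem exists_conj_mem_of_fixed [IsPretransitive G Ω] (ω₀ : Ω) {g : G} {ω : Ω} (h : g • ω = ω) :
    ∃ x : G, x⁻¹ * g * x ∈ stabilizer G ω₀ := by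
  obtain ⟨x, rfl⟩ := exists_smul_eq G ω₀ ω
  exact ⟨x, by rw [mem_stabilizer_iff, mul_smul, mul_smul, h, inv_smul_smul]⟩

theorem derangement_of_not_dvd [Finite G] [IsPretransitive G Ω] (ω₀ : Ω) {r : ℕ} (hr : r.Prime)
    (hG : r ∣ Nat.card G) (hA : ¬ r ∣ Nat.card (stabilizer G ω₀)) :
    ∃ g : G, orderOf g = r ∧ ∀ ω : Ω, g • ω ≠ ω := by
  haveI := Fact.mk hr
  obtain ⟨g, hg⟩ := exists_prime_orderOf_dvd_card' r hG
  refine ⟨g, hg, fun ω h => hA ?_⟩
  obtain ⟨x, hx⟩ := exists_conj_mem_of_fixed ω₀ h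
  have := orderOf_dvd_natCard (⟨_, hx⟩ : stabilizer G ω₀)
  rw [← Subgroup.orderOf_coe] at this
  change orderOf (x⁻¹ * g * x) ∣ _ at this
  have e : x⁻¹ * g * x = MulAut.conj x⁻¹ g := by simp
  rwa [e, MulEquiv.orderOf_eq, hg] at this

theorem not_sq_dvd_factorial {m r : ℕ} (hr : r.Prime) (hmr : m < 2 * r) : ¬ r * r ∣ m.factorial := by
  intro h
  induction m with
  | zero => have := Nat.le_of_dvd one_pos h; have := hr.two_le; nlinarith
  | succ n ih =>
    rw [Nat.factorial_succ] at h
    by_cases hd : r ∣ n + 1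
    · obtain ⟨c, hc⟩ := hd
      obtain rfl : c = 1 := by
        rcases c with _ | _ | c
        · omega
        · rfl
        · nlinarith
      rw [hc, mul_one] at h
      have h2 := Nat.dvd_of_mul_dvd_mul_left hr.pos h
      rw [hr.dvd_factorial] at h2
      omega
    · exact ih (by omega) ((Nat.Coprime.mul_left ((hr.coprime_iff_not_dvd).2 hd)
        ((hr.coprime_iff_not_dvd).2 hd)).dvd_of_dvd_mul_left h)

theorem main [Finite G] [Finite Ω] [FaithfulSMul G Ω] [IsPreprimitive G Ω] {m : ℕ} (hm : 5 ≤ m) (h6 : m ≠ 6)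
    (φ : G →* Perm (Fin m)) (hφ : Function.Injective φ) (halt : alternatingGroup (Fin m) ≤ φ.range)
    (hΩ : 2 ≤ Nat.card Ω) {r : ℕ} (hr : r.Prime) (hrd : r ∣ Nat.card Ω)
    (hmax : ∀ s : ℕ, s.Prime → s ∣ Nat.card Ω → s ≤ r) :
    ∃ g : G, orderOf g = r ∧ ∀ ω : Ω, g • ω ≠ ω := by
  classical
  haveI : Nontrivial Ω := Finite.one_lt_card_iff_nontrivial.1 (by omega)
  obtain ⟨ω₀⟩ := (inferInstance : Nonempty Ω)
  haveI := IsPreprimitive.toIsPretransitive (G := G) (X := Ω)
  have hidx : (stabilizer G ω₀).index = Nat.card Ω := index_stabilizer_of_transitive _ ω₀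
  have hGm : Nat.card G ∣ m.factorial := by
    have := Subgroup.card_dvd_of_injective φ hφ
    rwa [Nat.card_perm, Nat.card_eq_fintype_card (α := Fin m), Fintype.card_fin] at this
  have hrG : r ∣ Nat.card G := hrd.trans (hidx ▸ Subgroup.index_dvd_card _)
  have hrm : r ≤ m := hr.dvd_factorial.1 (hrG.trans hGm)
  let K := (stabilizer G ω₀).map φ
  have hKc : Nat.card K = Nat.card (stabilizer G ω₀) := Subgroup.card_map_of_injective hφ
  have hK : ¬ alternatingGroup (Fin m) ≤ K := by
    intro h
    have hN : (alternatingGroup (Fin m)).comap φ ≤ stabilizer G ω₀ := fun g hg => by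
      obtain ⟨a, ha, e⟩ := h (Subgroup.mem_comap.1 hg)
      exact hφ e ▸ ha
    have hne : (alternatingGroup (Fin m)).comap φ ≠ ⊥ := by
      intro e
      haveI : Nontrivial (alternatingGroup (Fin m)) := alternatingGroup.nontrivial_of_three_le_card (by simp; omega)
      obtain ⟨a, ha⟩ := exists_ne (1 : alternatingGroup (Fin m))
      obtain ⟨g, hg⟩ := halt a.2
      have : g ∈ (⊥ : Subgroup G) := e ▸ Subgroup.mem_comap.2 (hg ▸ a.2)
      rw [Subgroup.mem_bot] at this
      exact ha (Subtype.ext (by rw [← hg, this, map_one]; rfl))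
    haveI := CfsgLib.Perm.Jordan.isPretransitive_of_normal (X := Ω) (N := (alternatingGroup (Fin m)).comap φ) hne
    obtain ⟨ω₁, hω⟩ := exists_ne ω₀
    obtain ⟨n, hn⟩ := exists_smul_eq ((alternatingGroup (Fin m)).comap φ) ω₀ ω₁
    exact hω (hn.symm.trans (hN n.2))
  by_cases htr : IsPretransitive K (Fin m)
  · obtain ⟨p, hp, hmp, hpm, hpK⟩ := exists_missing_prime hm h6 K hK
    have hpG : p ∣ Nat.card G := by
      have h1 : p ∣ 2 * Nat.card (alternatingGroup (Fin m)) := by
        haveI : Nontrivial (Fin m) := Fin.nontrivial_iff_two_le.2 (by omega)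
        rw [Nat.card_eq_fintype_card, two_mul_card_alternatingGroup, Fintype.card_perm, Fintype.card_fin]
        exact hp.dvd_factorial.2 hpm
      have h2 := ((Nat.coprime_primes hp Nat.prime_two).2 (by omega)).dvd_of_dvd_mul_left h1
      refine (h2.trans (Subgroup.card_dvd_of_le halt)).trans ?_
      rw [Nat.card_congr (MonoidHom.ofInjective hφ).symm.toEquiv]
    have hpn : p ∣ Nat.card Ω := by
      have := (stabilizer G ω₀).card_mul_index
      rw [hidx, ← hKc] at this
      rw [← this] at hpG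
      exact (hp.dvd_mul.1 hpG).resolve_left hpK
    have hpr := hmax p hp hpn
    refine derangement_of_not_dvd ω₀ hr hrG fun hd => not_sq_dvd_factorial hr (by omega : m < 2 * r) ?_
    refine dvd_trans (Nat.mul_dvd_mul hd hrd) ?_
    rw [← hidx, Subgroup.card_mul_index]
    exact hGm
  obtain ⟨D, hD1, hD2, hDK⟩ : ∃ D : Finset (Fin m), 1 ≤ D.card ∧ 2 * D.card ≤ m ∧
      ∀ x ∈ K, D.map x.toEmbedding = D := by
    obtain ⟨a, b, hab⟩ : ∃ a b : Fin m, ∀ x : K, x • a ≠ b := by
      by_contra hcon
      push Not at hcon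
      exact htr ⟨hcon⟩
    let D : Finset (Fin m) := Finset.univ.filter (fun c => c ∈ orbit K a)
    have hDK : ∀ x ∈ K, D.map x.toEmbedding = D := by
      intro x hx
      refine Finset.eq_of_subset_of_card_le (fun c hc => ?_) (by simp)
      obtain ⟨d, hd, rfl⟩ := Finset.mem_map.1 hc
      simp only [D, Finset.mem_filter, Finset.mem_univ, true_and] at hd ⊢
      exact (mem_orbit_of_mem_orbit (⟨x, hx⟩ : K) hd :)
    have ha : a ∈ D := by simp [D]
    have hb : b ∉ D := by
      simp only [D, Finset.mem_filter, Finset.mem_univ, true_and]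
      rintro ⟨x, hx⟩
      exact hab x hx
    rcases Nat.lt_or_ge m (2 * D.card) with h | h
    · refine ⟨Dᶜ, Finset.card_pos.2 ⟨b, Finset.mem_compl.2 hb⟩, ?_, fun x hx => ?_⟩
      · rw [Finset.card_compl, Fintype.card_fin]; omega
      · refine Finset.eq_of_subset_of_card_le (fun c hc => ?_) (by simp)
        obtain ⟨d, hd, rfl⟩ := Finset.mem_map.1 hc
        rw [Finset.mem_compl] at hd ⊢
        intro hmem
        conv at hmem => arg 1; rw [← hDK x hx]
        simp at hmem
        exact hd hmem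
    · exact ⟨D, Finset.card_pos.2 ⟨a, ha⟩, h, hDK⟩
  letI act : MulAction G (Finset (Fin m)) :=
    { smul := fun g E => E.map (φ g).toEmbedding
      one_smul := fun E => by
        change E.map (φ 1).toEmbedding = E
        rw [map_one, Perm.one_def, Equiv.refl_toEmbedding, Finset.map_refl]
      mul_smul := fun g h E => by
        change E.map (φ (g * h)).toEmbedding = (E.map (φ h).toEmbedding).map (φ g).toEmbedding
        rw [map_mul, Finset.map_map]
        rfl }
  have horb : orbit G D = ↑(Finset.univ.powersetCard D.card : Finset (Finset (Fin m))) := by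
    ext E
    rw [Finset.mem_coe, Finset.mem_powersetCard]
    constructor
    · rintro ⟨g, rfl⟩
      exact ⟨Finset.subset_univ _, Finset.card_map _⟩
    · rintro ⟨-, hE⟩
      obtain ⟨σ, hσ, hσD⟩ := exists_even_eq hE.symm (by omega)
      obtain ⟨g, rfl⟩ := halt hσ
      exact ⟨g, hσD⟩
  have hB : stabilizer G ω₀ = stabilizer G D := by
    refine ((IsPreprimitive.isCoatom_stabilizer_of_isPreprimitive G ω₀).le_iff_eq ?_).1
      (fun g hg => hDK _ (Subgroup.mem_map_of_mem φ hg)) |>.symm
    intro e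
    have h1 := index_stabilizer G D
    rw [e, Subgroup.index_top, horb, Set.ncard_coe_finset, Finset.card_powersetCard, Finset.card_univ,
      Fintype.card_fin] at h1
    have h2 := Nat.choose_le_middle D.card m
    have h3 : 1 < m.choose D.card := by
      rcases Nat.eq_or_lt_of_le hD1 with h | h
      · rw [← h, Nat.choose_one_right]; omega
      · have h4 : ∀ j, 1 ≤ j → j ≤ D.card → 1 < m.choose j := by
          intro j hj
          induction j, hj using Nat.le_induction with
          | base => intro; rw [Nat.choose_one_right]; omega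
          | succ j _ ih => exact fun hjk => (ih (by omega)).trans_le (Nat.choose_le_succ_of_lt_half_left (by omega))
        exact h4 _ hD1 le_rfl
    omega
  have hn : Nat.card Ω = m.choose D.card := by
    rw [← hidx, hB, index_stabilizer, horb, Set.ncard_coe_finset, Finset.card_powersetCard, Finset.card_univ,
      Fintype.card_fin]
  obtain ⟨hk, hk2⟩ := mod_lt_of_max hm hD1 hD2 hr (hn ▸ hrd) (hn ▸ hmax)
  obtain ⟨σ, hσA, hσo, hσf⟩ := exists_element (m := m) hr hrm fun h2 => by
    subst h2
    rw [hk2 rfl, Nat.choose_one_right] at hn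
    rw [hn] at hmax hrd
    by_contra h4
    obtain ⟨c, rfl⟩ := hrd
    obtain ⟨q, hq, hqd⟩ := Nat.exists_prime_and_dvd (show c ≠ 1 by omega)
    have := hmax q hq (Dvd.dvd.mul_left hqd 2)
    obtain rfl : q = 2 := le_antisymm this hq.two_le
    obtain ⟨d, rfl⟩ := hqd
    exact h4 ⟨d, by ring⟩
  obtain ⟨g, rfl⟩ := halt hσA
  refine ⟨g, by rw [← hσo, orderOf_injective φ hφ], fun ω hω => ?_⟩
  obtain ⟨x, hx⟩ := exists_conj_mem_of_fixed ω₀ hω
  rw [hB, mem_stabilizer_iff, mul_smul, mul_smul, inv_smul_eq_iff] at hx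
  have hcard : (x • D).card = D.card := Finset.card_map _
  exact not_fix hr hσo hσf (hcard.symm ▸ hk) hx

end CfsgLib.Perm.AltDerange
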