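import Mathlib

/-!
# A large prime divisor of a binomial coefficient
-/

set_option autoImplicit false

namespace CfsgLib.Perm.AltDerange

open Nat

theorem two_mul_card_primes_le : ∀ t : ℕ, 8 ≤ t → 2 * ((Finset.range (t + 1)).filter Nat.Prime).card ≤ t := by
  intro t
  induction t using Nat.strong_induction_on with
  | _ t ih =>
    intro ht
    rcases lt_or_ge t 10 with h | h
    · interval_cases t <;> decide
    obtain ⟨u, rfl⟩ : ∃ u, t = u + 2 := ⟨t - 2, by omega⟩
    have h1 := ih u (by omega) (by omega)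
    have h2 : ((Finset.range (u + 2 + 1)).filter Nat.Prime).card ≤
        ((Finset.range (u + 1)).filter Nat.Prime).card + 1 := by
      rw [Finset.range_add_one, Finset.filter_insert, Finset.range_add_one, Finset.filter_insert]
      rcases Nat.even_or_odd u with he | ho
      · have hn : ¬ (u + 1 + 1).Prime := fun hp => by
          have := hp.eq_two_or_odd
          obtain ⟨v, rfl⟩ := he
          omega
        rw [if_neg hn]
        split_ifs
        · exact Finset.card_insert_le _ _
        · omega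
      · have hn : ¬ (u + 1).Prime := fun hp => by
          have := hp.eq_two_or_odd
          obtain ⟨v, rfl⟩ := ho
          omega
        rw [if_neg hn]
        split_ifs
        · exact Finset.card_insert_le _ _
        · omega
    omega

theorem choose_le_pow {m k t : ℕ} (hk : k ≤ m) (hm : 0 < m)
    (h : ∀ p : ℕ, p.Prime → p ∣ m.choose k → p ≤ t) :
    m.choose k ≤ m ^ ((Finset.range (t + 1)).filter Nat.Prime).card := by
  have h0 : m.choose k ≠ 0 := (Nat.choose_pos hk).ne'
  conv_lhs => rw [← Nat.prod_factorization_pow_eq_self h0]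
  rw [Finsupp.prod]
  calc ∏ p ∈ (m.choose k).factorization.support, p ^ (m.choose k).factorization p
      ≤ ∏ _p ∈ (m.choose k).factorization.support, m :=
        Finset.prod_le_prod' fun p _ => Nat.pow_factorization_choose_le hm
    _ = m ^ (m.choose k).factorization.support.card := by rw [Finset.prod_const]
    _ ≤ _ := by
      refine Nat.pow_le_pow_right hm (Finset.card_le_card fun p hp => ?_)
      rw [Nat.support_factorization, Nat.mem_primeFactors] at hp
      exact Finset.mem_filter.2 ⟨Finset.mem_range.2 (Nat.lt_succ_of_le (h p hp.1 hp.2.1)), hp.1⟩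

theorem pow_lt_choose_mul_pow {m k : ℕ} (hk : 2 ≤ k) (hkm : k < m) : m ^ k < m.choose k * k ^ k := by
  have hf : 0 < k ! := Nat.factorial_pos k
  refine Nat.lt_of_mul_lt_mul_left (a := k !) ?_
  have e1 : k ! * (m.choose k * k ^ k) = (∏ i ∈ Finset.range k, (m - i)) * ∏ _i ∈ Finset.range k, k := by
    rw [← Nat.descFactorial_eq_prod_range, Finset.prod_const, Finset.card_range,
      Nat.descFactorial_eq_factorial_mul_choose, mul_assoc]
  have e2 : k ! * m ^ k = (∏ i ∈ Finset.range k, (k - i)) * ∏ _i ∈ Finset.range k, m := by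
    rw [← Nat.descFactorial_eq_prod_range, Nat.descFactorial_self, Finset.prod_const, Finset.card_range]
  rw [e1, e2, ← Finset.prod_mul_distrib, ← Finset.prod_mul_distrib]
  refine Finset.prod_lt_prod (fun i hi => ?_) (fun i hi => ?_) ⟨1, Finset.mem_range.2 (by omega), ?_⟩
  · have := Finset.mem_range.1 hi
    exact Nat.mul_pos (by omega) (by omega)
  · have := Finset.mem_range.1 hi
    obtain ⟨a, rfl⟩ : ∃ a, k = i + a := ⟨k - i, by omega⟩
    obtain ⟨b, rfl⟩ : ∃ b, m = i + a + b := ⟨m - (i + a), by omega⟩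
    rw [show i + a + b - i = a + b by omega, show i + a - i = a by omega]
    nlinarith
  · obtain ⟨a, rfl⟩ : ∃ a, k = 1 + a := ⟨k - 1, by omega⟩
    obtain ⟨b, rfl⟩ : ∃ b, m = 1 + a + b + 1 := ⟨m - (1 + a) - 1, by omega⟩
    rw [show 1 + a + b + 1 - 1 = a + b + 1 by omega, show 1 + a - 1 = a by omega]
    nlinarith

theorem pow_mul_sub_le {s : ℕ} : ∀ j, j ≤ s + 1 → (s + 1) ^ j * (s + 1 - j) ≤ s ^ j * (s + 1) := by
  intro j
  induction j with
  | zero => intro _; simp
  | succ j ih =>
    intro hj
    have h1 := ih (by omega)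
    obtain ⟨a, rfl⟩ : ∃ a, s = j + a := ⟨s - j, by omega⟩
    rw [show j + a + 1 - (j + 1) = a by omega, show j + a + 1 - j = a + 1 by omega] at *
    calc (j + a + 1) ^ (j + 1) * a = (j + a + 1) ^ j * ((j + a + 1) * a) := by ring
      _ ≤ (j + a + 1) ^ j * ((j + a) * (a + 1)) := Nat.mul_le_mul_left _ (by nlinarith)
      _ = (j + a) * ((j + a + 1) ^ j * (a + 1)) := by ring
      _ ≤ (j + a) * ((j + a) ^ j * (j + a + 1)) := Nat.mul_le_mul_left _ h1
      _ = _ := by ring

theorem succ_pow_lt {s : ℕ} (hs : 8 ≤ s) : (s + 1) ^ (s + 1) < s ^ (s + 2) := by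
  rcases Nat.even_or_odd' s with ⟨u, rfl | rfl⟩
  · have h := pow_mul_sub_le (s := 2 * u) (u + 1) (by omega)
    rw [show 2 * u + 1 - (u + 1) = u by omega] at h
    have h2 := Nat.mul_le_mul h h
    have h3 : (2 * u + 1) ^ (2 * u + 2) * (u * u) ≤ (2 * u) ^ (2 * u + 2) * ((2 * u + 1) * (2 * u + 1)) := by
      convert h2 using 1 <;> ring
    have h4 : (2 * u + 1) * (2 * u + 1) < 2 * u * (u * u) := by nlinarith
    have h5 : (2 * u + 1) ^ (2 * u + 2) * (u * u) < (2 * u) ^ (2 * u + 3) * (u * u) := by
      refine h3.trans_lt ?_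
      rw [pow_succ _ (2 * u + 2), mul_assoc]
      exact Nat.mul_lt_mul_of_pos_left h4 (pow_pos (by omega) _)
    have h6 := Nat.lt_of_mul_lt_mul_right h5
    refine Nat.lt_of_mul_lt_mul_right (a := 2 * u + 1) ?_
    calc (2 * u + 1) ^ (2 * u + 1) * (2 * u + 1) = (2 * u + 1) ^ (2 * u + 2) := by ring
      _ < (2 * u) ^ (2 * u + 3) := h6
      _ = (2 * u) ^ (2 * u + 2) * (2 * u) := by ring
      _ ≤ _ := Nat.mul_le_mul_left _ (by omega)
  · have h := pow_mul_sub_le (s := 2 * u + 1) (u + 1) (by omega)
    rw [show 2 * u + 1 + 1 - (u + 1) = u + 1 by omega] at h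
    have h1 : (2 * u + 2) ^ (u + 1) ≤ (2 * u + 1) ^ (u + 1) * 2 := by
      refine Nat.le_of_mul_le_mul_right (h.trans_eq ?_) (by omega : 0 < u + 1)
      ring
    calc (2 * u + 1 + 1) ^ (2 * u + 1 + 1) = (2 * u + 2) ^ (u + 1) * (2 * u + 2) ^ (u + 1) := by ring
      _ ≤ (2 * u + 1) ^ (u + 1) * 2 * ((2 * u + 1) ^ (u + 1) * 2) := Nat.mul_le_mul h1 h1
      _ = (2 * u + 1) ^ (2 * u + 2) * 4 := by ring
      _ < (2 * u + 1) ^ (2 * u + 2) * (2 * u + 1) :=
          Nat.mul_lt_mul_of_pos_left (by omega) (pow_pos (by omega) _)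
      _ = _ := by ring

theorem not_dvd_choose_of_lt {r a b : ℕ} (hr : r.Prime) (ha : a < r) (hb : b ≤ a) : ¬ r ∣ a.choose b := by
  intro h
  have : r ∣ a ! := by
    rw [← Nat.choose_mul_factorial_mul_factorial hb]
    exact Dvd.dvd.mul_right (Dvd.dvd.mul_right h _) _
  rw [hr.dvd_factorial] at this
  omega

theorem dvd_choose_of_mod_lt {m k p : ℕ} (hp : p.Prime) (h : m % p < k % p) : p ∣ m.choose k := by
  haveI := Fact.mk hp
  have := Choose.choose_modEq_choose_mod_mul_choose_div_nat (p := p) (n := m) (k := k)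
  rw [Nat.choose_eq_zero_of_lt h, zero_mul] at this
  exact Nat.modEq_zero_iff_dvd.1 this

def smallPrimes : List ℕ := [2, 3, 5, 7, 11, 13, 17, 19, 23, 29, 31, 37, 41, 43, 47, 53, 59, 61, 67, 71, 73, 79, 83, 89, 97]

theorem finite_check : ∀ m : ℕ, m < 100 → ∀ k : ℕ, k < 32 → 1 ≤ k → 2 * k ≤ m → m < 64 ∨ k = 7 →
    ∃ p ∈ smallPrimes, (k < p ∨ m < p * p) ∧ m % p < k % p := by
  have h : (List.range 100).all (fun m => (List.range 32).all fun k =>
      decide (k = 0) || decide (m < 2 * k) || (decide (64 ≤ m) && !decide (k = 7)) ||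
        smallPrimes.any (fun p => (decide (k < p) || decide (m < p * p)) && decide (m % p < k % p))) = true := by
    decide +kernel
  intro m hm k hk h1 h2 h3
  simp only [List.all_eq_true, List.mem_range, Bool.or_eq_true, Bool.and_eq_true, Bool.not_eq_true',
    decide_eq_true_eq, decide_eq_false_iff_not, List.any_eq_true] at h
  rcases h m hm k hk with ((h' | h') | ⟨h', h''⟩) | h'
  · omega
  · omega
  · omega
  · exact h'

/-- A weak form of the theorem of Sylvester and Schur. -/
theorem exists_big_prime {m k : ℕ} (hk : 1 ≤ k) (hkm : 2 * k ≤ m) :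
    ∃ p : ℕ, p.Prime ∧ p ∣ m.choose k ∧ (k < p ∨ m < p * p) := by
  have small : m < 100 → k < 32 → m < 64 ∨ k = 7 → ∃ p : ℕ, p.Prime ∧ p ∣ m.choose k ∧ (k < p ∨ m < p * p) := by
    intro h1 h2 h3
    obtain ⟨p, hp, h4, h5⟩ := finite_check m h1 k h2 hk hkm h3
    have hpp : p.Prime := by
      simp only [smallPrimes, List.mem_cons, List.not_mem_nil, or_false] at hp
      rcases hp with rfl | rfl | rfl | rfl | rfl | rfl | rfl | rfl | rfl | rfl | rfl | rfl | rfl | rfl |
        rfl | rfl | rfl | rfl | rfl | rfl | rfl | rfl | rfl | rfl | rfl <;> norm_num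
    exact ⟨p, hpp, dvd_choose_of_mod_lt hpp h5, h4⟩
  by_contra hcon
  push Not at hcon
  rcases lt_or_ge m 64 with hm | hm
  · obtain ⟨p, h1, h2, h3⟩ := small (by omega) (by omega) (Or.inl hm)
    have := hcon p h1 h2
    omega
  have hsle : Nat.sqrt m * Nat.sqrt m ≤ m := Nat.sqrt_le m
  have hslt : m < (Nat.sqrt m + 1) * (Nat.sqrt m + 1) := Nat.lt_succ_sqrt m
  generalize hs : Nat.sqrt m = s at hsle hslt
  have hs8 : 8 ≤ s := by
    rw [← hs]; exact Nat.le_sqrt.2 (by omega)
  rcases lt_or_ge s k with hsk | hks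
  · have hb := choose_le_pow (m := m) (k := k) (t := s) (by omega) (by omega) fun p hp hd => by
      rw [← hs]; exact Nat.le_sqrt.2 (hcon p hp hd).2
    generalize hc : ((Finset.range (s + 1)).filter Nat.Prime).card = c at hb
    have hc2 : 2 * c ≤ s := hc ▸ two_mul_card_primes_le s hs8
    have hmono : ∀ j, s + 1 ≤ j → j ≤ k → m.choose (s + 1) ≤ m.choose j := by
      intro j hj
      induction j, hj using Nat.le_induction with
      | base => exact fun _ => le_rfl
      | succ j _ ih => exact fun hjk => (ih (by omega)).trans (Nat.choose_le_succ_of_lt_half_left (by omega))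
    have hC : m.choose (s + 1) * m.choose (s + 1) ≤ m ^ s := by
      refine (Nat.mul_le_mul ((hmono k hsk le_rfl).trans hb) ((hmono k hsk le_rfl).trans hb)).trans ?_
      rw [← pow_add]; exact Nat.pow_le_pow_right (by omega) (by omega)
    have h1 := pow_lt_choose_mul_pow (m := m) (k := s + 1) (by omega) (by omega)
    have h2 : m ^ s * m ^ (s + 2) ≤ m ^ s * ((s + 1) ^ (s + 1) * (s + 1) ^ (s + 1)) := by
      calc m ^ s * m ^ (s + 2) = m ^ (s + 1) * m ^ (s + 1) := by ring
        _ ≤ m.choose (s + 1) * (s + 1) ^ (s + 1) * (m.choose (s + 1) * (s + 1) ^ (s + 1)) :=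
            Nat.mul_le_mul h1.le h1.le
        _ = m.choose (s + 1) * m.choose (s + 1) * ((s + 1) ^ (s + 1) * (s + 1) ^ (s + 1)) := by ring
        _ ≤ _ := Nat.mul_le_mul_right _ hC
    have h3 := Nat.le_of_mul_le_mul_left h2 (pow_pos (by omega) _)
    have h4 : (s * s) ^ (s + 2) ≤ (s + 1) ^ (s + 1) * (s + 1) ^ (s + 1) :=
      (Nat.pow_le_pow_left hsle _).trans h3
    rw [mul_pow] at h4
    exact absurd h4 (not_le.2 (Nat.mul_lt_mul'' (succ_pow_lt hs8) (succ_pow_lt hs8)))
  · have hkk : k * k ≤ m := le_trans (Nat.mul_le_mul hks hks) hsle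
    have hb := choose_le_pow (m := m) (k := k) (t := k) (by omega) (by omega) fun p hp hd => (hcon p hp hd).1
    rcases eq_or_lt_of_le hk with rfl | hk2
    · rw [show ((Finset.range (1 + 1)).filter Nat.Prime).card = 0 by decide] at hb
      simp only [Nat.choose_one_right, pow_zero] at hb
      omega
    have h1 := pow_lt_choose_mul_pow (m := m) hk2 (by omega : k < m)
    rcases lt_or_ge k 8 with h8 | h8
    · interval_cases k
      · rw [show ((Finset.range (2 + 1)).filter Nat.Prime).card = 1 by decide] at hb; nlinarith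
      · rw [show ((Finset.range (3 + 1)).filter Nat.Prime).card = 2 by decide] at hb; nlinarith
      · rw [show ((Finset.range (4 + 1)).filter Nat.Prime).card = 2 by decide] at hb
        have : m * m * (m * m) < m * m * 256 := by nlinarith
        have := Nat.lt_of_mul_lt_mul_left this
        nlinarith
      · rw [show ((Finset.range (5 + 1)).filter Nat.Prime).card = 3 by decide] at hb
        have : m * m * m * (m * m) < m * m * m * 3125 := by nlinarith
        have := Nat.lt_of_mul_lt_mul_left this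
        nlinarith
      · rw [show ((Finset.range (6 + 1)).filter Nat.Prime).card = 3 by decide] at hb
        have : m * m * m * (m * m * m) < m * m * m * 46656 := by nlinarith
        have := Nat.lt_of_mul_lt_mul_left this
        have : 64 * 64 * 64 ≤ m * m * m := Nat.mul_le_mul (Nat.mul_le_mul hm hm) hm
        omega
      · rw [show ((Finset.range (7 + 1)).filter Nat.Prime).card = 4 by decide] at hb
        have : m * m * m * m * (m * m * m) < m * m * m * m * 823543 := by nlinarith
        have h2 := Nat.lt_of_mul_lt_mul_left this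
        rcases lt_or_ge m 100 with hm' | hm'
        · obtain ⟨p, h1, h2, h3⟩ := small hm' (by omega) (Or.inr rfl)
          have := hcon p h1 h2
          omega
        · have : 100 * 100 * 100 ≤ m * m * m := Nat.mul_le_mul (Nat.mul_le_mul hm' hm') hm'
          omega
    · generalize hc : ((Finset.range (k + 1)).filter Nat.Prime).card = c at hb
      have hc2 : 2 * c ≤ k := hc ▸ two_mul_card_primes_le k h8
      have hC : m.choose k * m.choose k ≤ m ^ k := by
        refine (Nat.mul_le_mul hb hb).trans ?_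
        rw [← pow_add]; exact Nat.pow_le_pow_right (by omega) (by omega)
      have h2 : m ^ k * m ^ k < m ^ k * (k * k) ^ k := by
        calc m ^ k * m ^ k < m.choose k * k ^ k * (m.choose k * k ^ k) := Nat.mul_lt_mul'' h1 h1
          _ = m.choose k * m.choose k * (k * k) ^ k := by rw [mul_pow]; ring
          _ ≤ _ := Nat.mul_le_mul_right _ hC
      exact absurd (Nat.pow_le_pow_left hkk k) (not_le.2 (Nat.lt_of_mul_lt_mul_left h2))

/-- The largest prime divisor `r` of `m.choose k` sees a carry in the last base `r` digit. -/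
theorem mod_lt_of_max {m k r : ℕ} (hm : 5 ≤ m) (hk : 1 ≤ k) (hkm : 2 * k ≤ m) (hr : r.Prime)
    (hrd : r ∣ m.choose k) (hmax : ∀ s : ℕ, s.Prime → s ∣ m.choose k → s ≤ r) :
    m % r < k % r ∧ (r = 2 → k = 1) := by
  obtain ⟨p, hp, hpd, hpk⟩ := exists_big_prime hk hkm
  have hpr := hmax p hp hpd
  have h : k < r ∨ m < r * r := hpk.imp (fun h => by omega) fun h => h.trans_le (Nat.mul_le_mul hpr hpr)
  refine ⟨?_, fun h2 => ?_⟩
  · by_contra hc
    haveI := Fact.mk hr
    have h1 := Choose.choose_modEq_choose_mod_mul_choose_div_nat (p := r) (n := m) (k := k)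
    have h2 : r ∣ (m % r).choose (k % r) * (m / r).choose (k / r) :=
      Nat.modEq_zero_iff_dvd.1 (h1.symm.trans (Nat.modEq_zero_iff_dvd.2 hrd))
    rcases hr.dvd_mul.1 h2 with h3 | h3
    · exact not_dvd_choose_of_lt hr (Nat.mod_lt _ hr.pos) (not_lt.1 hc) h3
    · rcases h with h | h
      · rw [Nat.div_eq_of_lt h, Nat.choose_zero_right] at h3
        exact hr.not_dvd_one h3
      · exact not_dvd_choose_of_lt hr ((Nat.div_lt_iff_lt_mul hr.pos).2 h)
          (Nat.div_le_div_right (by omega)) h3
  · subst h2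
    omega

end CfsgLib.Perm.AltDerange
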