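import Cfsg.Agent.S0713
import Cfsg.Agent.Lib.Perm.AltBounded.PrimeGap
import Cfsg.Agent.Lib.Perm.AltDerange.Binom

/-!
# Point stabilisers in alternating and symmetric groups, as seen on the natural points
-/

set_option autoImplicit false

namespace CfsgLib.Perm.AltDerange

open Equiv MulAction
open scoped Pointwise

theorem card_dvd_factorial_index {T : Type*} [Group T] [Finite T] [IsSimpleGroup T] {H : Subgroup T}
    (hH : H ≠ ⊤) : Nat.card T ∣ H.index.factorial := by
  haveI := Fintype.ofFinite (T ⧸ H)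
  have hinj : Function.Injective (MulAction.toPermHom T (T ⧸ H)) := by
    rw [← MonoidHom.ker_eq_bot_iff, ← Subgroup.normalCore_eq_ker]
    exact (H.normalCore_normal.eq_bot_or_eq_top).resolve_right fun h => hH (eq_top_iff.2 (h ▸ H.normalCore_le))
  have h := Subgroup.card_dvd_of_injective _ hinj
  rwa [Nat.card_perm, ← Subgroup.index_eq_card] at h

theorem exists_index_two {A : Type*} [Group A] [Finite A] {u : ℕ} (hu : Odd u) (h : Nat.card A = 2 * u) :
    ∃ K : Subgroup A, K.index = 2 ∧ Nat.card K = u := by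
  classical
  haveI := Fintype.ofFinite A
  haveI := Fact.mk Nat.prime_two
  obtain ⟨x, hx⟩ := exists_prime_orderOf_dvd_card' (G := A) 2 (by rw [h]; exact dvd_mul_right 2 u)
  let f : A →* ℤˣ := Perm.sign.comp (MulAction.toPermHom A A)
  have hne : MulAction.toPermHom A A x ≠ 1 := fun e => by
    have := DFunLike.congr_fun e 1
    simp at this
    simp [this] at hx
  have hsupp : (MulAction.toPermHom A A x).support = Finset.univ := by
    refine Finset.eq_univ_of_forall fun a => Perm.mem_support.2 ?_
    simpa using fun e : x = 1 => by simp [e] at hx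
  have hsq : MulAction.toPermHom A A x ^ 2 = 1 := by rw [← map_pow, ← hx, pow_orderOf_eq_one, map_one]
  have hfx : f x = -1 := by
    have h2 : ∀ a ∈ (MulAction.toPermHom A A x).cycleType, a = 2 := by
      intro a ha
      have h1 := Perm.dvd_of_mem_cycleType ha
      have h3 := orderOf_dvd_of_pow_eq_one hsq
      have h4 := Nat.le_of_dvd two_pos (h1.trans h3)
      have := Perm.two_le_of_mem_cycleType ha
      omega
    have hrep := Multiset.eq_replicate_card.2 h2
    have hsum := Perm.sum_cycleType (MulAction.toPermHom A A x)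
    rw [hsupp, hrep, Multiset.sum_replicate, Finset.card_univ, ← Nat.card_eq_fintype_card, h, smul_eq_mul] at hsum
    change Perm.sign _ = -1
    rw [Perm.sign_of_cycleType, hrep, Multiset.sum_replicate, Multiset.card_replicate, smul_eq_mul]
    refine Odd.neg_one_pow ?_
    obtain ⟨v, rfl⟩ := hu
    exact ⟨Multiset.card (MulAction.toPermHom A A x).cycleType + v, by omega⟩
  have hsurj : Function.Surjective f := by
    intro z
    rcases Int.units_eq_one_or z with rfl | rfl
    · exact ⟨1, map_one f⟩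
    · exact ⟨x, hfx⟩
  have hi : f.ker.index = 2 := by
    rw [Subgroup.index_ker, MonoidHom.range_eq_top.2 hsurj]
    simp
  refine ⟨f.ker, hi, ?_⟩
  have := f.ker.card_mul_index
  rw [hi, h] at this
  omega

variable {m : ℕ}

theorem support_card_of_prime {p : ℕ} (hp : p.Prime) (hmp : m < 2 * p) {σ : Perm (Fin m)}
    (hσ : orderOf σ = p) : σ.IsCycle ∧ σ.support.card = p := by
  have hc := Perm.isCycle_of_prime_order' (σ := σ) (by rw [hσ]; exact hp) (by simpa [hσ] using hmp)
  exact ⟨hc, by rw [← hc.orderOf, hσ]⟩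

theorem imprimitive_case (K : Subgroup (Perm (Fin m))) [IsPretransitive K (Fin m)]
    (hK : ¬ IsPreprimitive K (Fin m)) {p : ℕ} (hp : p.Prime) (hmp : m < 2 * p) (hpm : p ≤ m) :
    ¬ p ∣ Nat.card K := by
  intro hd
  haveI := Fact.mk hp
  obtain ⟨x, hx⟩ := exists_prime_orderOf_dvd_card' p hd
  have hx' : orderOf (x : Perm (Fin m)) = p := by rw [Subgroup.orderOf_coe, hx]
  obtain ⟨hc, hcard⟩ := support_card_of_prime hp hmp hx'
  obtain ⟨y, hy⟩ : (x : Perm (Fin m)).support.Nonempty := Finset.card_pos.1 (by rw [hcard]; exact hp.pos)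
  obtain ⟨B, hyB, hB, hnt⟩ : ∃ B : Set (Fin m), y ∈ B ∧ IsBlock K B ∧ ¬ IsTrivialBlock B := by
    by_contra hcon
    push Not at hcon
    exact hK (IsPreprimitive.of_isTrivialBlock_base y fun {B} h1 h2 => hcon B h1 h2)
  have hBne : B.Nonempty := ⟨y, hyB⟩
  have hdiv : B.ncard ∣ m := by
    have := hB.ncard_dvd_card hBne
    simpa using this
  have hB2 : 2 ≤ B.ncard := by
    by_contra hcon
    exact hnt (Or.inl (Set.ncard_le_one_iff_subsingleton.1 (by omega)))
  have hBm : 2 * B.ncard ≤ m := by
    obtain ⟨c, hcc⟩ := hdiv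
    have hne : B.ncard ≠ m := fun e => hnt (Or.inr (Set.eq_univ_iff_ncard _ |>.2 (by simpa using e)))
    rcases c with _ | _ | c
    · exact absurd hcc (by have := hp.two_le; omega)
    · exact absurd (by simpa using hcc.symm) hne
    · calc 2 * B.ncard ≤ B.ncard * (c + 1 + 1) := by nlinarith
        _ = m := hcc.symm
  have hfix : x • B = B := by
    by_contra hne
    have key : ∀ d : ℕ, 0 < d → d < p → Disjoint ((x ^ d) • B) B := by
      intro d hd0 hdp
      rcases hB.smul_eq_or_disjoint (x ^ d) with e | e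
      · refine absurd ?_ hne
        have hs : x ^ d ∈ stabilizer K B := e
        have hx2 : x ∈ Subgroup.zpowers (x ^ d) := mem_zpowers_pow_iff.2 (by
          rw [hx]; exact (hp.coprime_iff_not_dvd.2 fun hh => by have := Nat.le_of_dvd hd0 hh; omega).symm)
        exact (Subgroup.zpowers_le.2 hs) hx2
      · exact e
    have hinj : Function.Injective (fun z : Fin p × B => (x ^ (z.1 : ℕ)) • (z.2 : Fin m)) := by
      rintro ⟨i, b⟩ ⟨j, c⟩ (e : x ^ (i : ℕ) • (b : Fin m) = x ^ (j : ℕ) • (c : Fin m))
      wlog hij : (i : ℕ) ≤ (j : ℕ) generalizing i j b c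
      · exact (this j c i b e.symm (by omega)).symm
      obtain ⟨d, hd⟩ := Nat.exists_eq_add_of_le hij
      rw [hd, pow_add, mul_smul] at e
      have e' : (b : Fin m) = x ^ d • (c : Fin m) := smul_left_cancel _ e
      rcases Nat.eq_zero_or_pos d with rfl | hd0
      · simp only [pow_zero, one_smul] at e'
        obtain rfl : b = c := Subtype.ext e'
        obtain rfl : i = j := Fin.ext (by omega)
        rfl
      · exact absurd b.2 (e' ▸ Set.disjoint_left.1 (key d hd0 (by have := j.2; omega))
          (Set.smul_mem_smul_set c.2))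
    have h1 := Nat.card_le_card_of_injective _ hinj
    rw [Nat.card_prod, Nat.card_eq_fintype_card, Fintype.card_fin, Nat.card_coe_set_eq,
      Nat.card_eq_fintype_card, Fintype.card_fin] at h1
    have := Nat.mul_le_mul_left p hB2
    omega
  have hsub : ((x : Perm (Fin m)).support : Set (Fin m)) ⊆ B := by
    intro z hz
    obtain ⟨i, rfl⟩ := hc.exists_zpow_eq (Perm.mem_support.1 hy) (Perm.mem_support.1 hz)
    have hi : x ^ i ∈ stabilizer K B := zpow_mem hfix i
    have := Set.smul_mem_smul_set (a := x ^ i) hyB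
    rw [hi] at this
    simpa [Subgroup.smul_def] using this
  have := Set.ncard_le_ncard hsub
  rw [Set.ncard_coe_finset, hcard] at this
  omega

theorem sub_le_of_odd (K : Subgroup (Perm (Fin m))) {p : ℕ} (hp : p.Prime) (hp2 : p ≠ 2)
    (hd : p ∣ Nat.card K) : p ∣ Nat.card (K ⊓ alternatingGroup (Fin m) : Subgroup (Perm (Fin m))) := by
  haveI := Fact.mk hp
  obtain ⟨x, hx⟩ := exists_prime_orderOf_dvd_card' p hd
  have hx' : orderOf (x : Perm (Fin m)) = p := by rw [Subgroup.orderOf_coe, hx]
  have hev : (x : Perm (Fin m)) ∈ alternatingGroup (Fin m) := by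
    rw [Perm.mem_alternatingGroup]
    rcases Int.units_eq_one_or (Perm.sign (x : Perm (Fin m))) with h | h
    · exact h
    · exfalso
      have := congrArg Perm.sign (pow_orderOf_eq_one (x : Perm (Fin m)))
      rw [hx', map_pow, h, map_one, (hp.odd_of_ne_two hp2).neg_one_pow] at this
      exact absurd this (by decide)
  have := orderOf_dvd_natCard (⟨x, x.2, hev⟩ : (K ⊓ alternatingGroup (Fin m) : Subgroup (Perm (Fin m))))
  rwa [← Subgroup.orderOf_coe, hx'] at this

theorem three_transitive_seven (K : Subgroup (Perm (Fin 7))) (h5 : 5 ∣ Nat.card K) (h7 : 7 ∣ Nat.card K) :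
    210 ∣ Nat.card K := by
  haveI := Fact.mk (show Nat.Prime 7 by norm_num)
  haveI := Fact.mk (show Nat.Prime 5 by norm_num)
  obtain ⟨x, hx⟩ := exists_prime_orderOf_dvd_card' 7 h7
  obtain ⟨y, hy⟩ := exists_prime_orderOf_dvd_card' 5 h5
  obtain ⟨hxc, hxs⟩ := support_card_of_prime (p := 7) (m := 7) (σ := (x : Perm (Fin 7))) (by norm_num)
    (by norm_num) (by rw [Subgroup.orderOf_coe, hx])
  obtain ⟨hyc, hys⟩ := support_card_of_prime (p := 5) (m := 7) (σ := (y : Perm (Fin 7))) (by norm_num)
    (by norm_num) (by rw [Subgroup.orderOf_coe, hy])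
  haveI : IsPretransitive K (Fin 7) := by
    have hu : (x : Perm (Fin 7)).support = Finset.univ := Finset.eq_univ_of_card _ (by rw [hxs]; rfl)
    refine ⟨fun a b => ?_⟩
    obtain ⟨i, hi⟩ := hxc.exists_zpow_eq (x := a) (y := b)
      (Perm.mem_support.1 (hu ▸ Finset.mem_univ a)) (Perm.mem_support.1 (hu ▸ Finset.mem_univ b))
    exact ⟨x ^ i, by simpa [Subgroup.smul_def] using hi⟩
  have hprim : IsPreprimitive K (Fin 7) := IsPreprimitive.of_prime_card (by simpa using (by norm_num : Nat.Prime 7))
  have hsc : ((y : Perm (Fin 7)).support : Set (Fin 7))ᶜ.ncard = 1 + 1 := by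
    have := Set.ncard_add_ncard_compl ((y : Perm (Fin 7)).support : Set (Fin 7))
    rw [Set.ncard_coe_finset, hys, Nat.card_eq_fintype_card, Fintype.card_fin] at this
    omega
  have h3 : IsMultiplyPreprimitive K (Fin 7) (1 + 2) := by
    refine hprim.isMultiplyPreprimitive hsc (by simp) ?_
    haveI := Equiv.Perm.isPretransitive_of_isCycle_mem hyc y.2
    apply IsPreprimitive.of_prime_card
    classical
    convert (show Nat.Prime 5 by norm_num) using 1
    rw [Nat.card_eq_fintype_card, Fintype.card_subtype, ← hys]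
    congr 1
    ext z
    simp [SubMulAction.mem_ofFixingSubgroup_iff]
  have hpt : IsPretransitive K (Fin (1 + 2) ↪ Fin 7) := h3.isMultiplyPretransitive
  let e : Fin (1 + 2) ↪ Fin 7 := Fin.castLEEmb (by norm_num)
  have := Subgroup.index_dvd_card (stabilizer K e)
  rw [@index_stabilizer_of_transitive K _ _ _ e hpt, Nat.card_eq_fintype_card,
    Fintype.card_embedding_eq] at this
  simpa [Nat.descFactorial] using this

/-- A transitive group not containing the alternating group misses a prime above half the degree. -/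
theorem exists_missing_prime (hm : 5 ≤ m) (h6 : m ≠ 6) (K : Subgroup (Perm (Fin m)))
    [IsPretransitive K (Fin m)] (hK : ¬ alternatingGroup (Fin m) ≤ K) :
    ∃ p : ℕ, p.Prime ∧ m < 2 * p ∧ p ≤ m ∧ ¬ p ∣ Nat.card K := by
  by_cases hprim : IsPreprimitive K (Fin m)
  swap
  · obtain ⟨p, hp, h1, h2⟩ := Nat.exists_prime_lt_and_le_two_mul (m / 2) (by omega)
    exact ⟨p, hp, by omega, by omega, imprimitive_case K hprim hp (by omega) (by omega)⟩
  rcases lt_or_ge m 8 with h8 | h8
  swap
  · obtain ⟨p, hp, h1, h2⟩ := AltBounded.exists_prime_between (n := m / 2) (by omega)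
    have := hp.eq_two_or_odd
    refine ⟨p, hp, by omega, by omega, fun hd => hK ?_⟩
    haveI := Fact.mk hp
    obtain ⟨x, hx⟩ := exists_prime_orderOf_dvd_card' p hd
    obtain ⟨hc, hs⟩ := support_card_of_prime hp (by omega : m < 2 * p) (σ := (x : Perm (Fin m)))
      (by rw [Subgroup.orderOf_coe, hx])
    exact Cfsg.Agent.S0713.result K hprim hp (by simp; omega) (by simp; omega) hc hs x.2
  haveI := alternatingGroup.isSimpleGroup (α := Fin m) (by simpa using hm)
  let H := (K ⊓ alternatingGroup (Fin m)).subgroupOf (alternatingGroup (Fin m))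
  have hH : H ≠ ⊤ := fun e => hK fun x hx =>
    (Subgroup.mem_inf.1 (Subgroup.mem_subgroupOf.1
    ((eq_top_iff.1 e) (Subgroup.mem_top (⟨x, hx⟩ : alternatingGroup (Fin m)))))).1
  have hHc : Nat.card H = Nat.card (K ⊓ alternatingGroup (Fin m) : Subgroup (Perm (Fin m))) :=
    Nat.card_congr (Subgroup.subgroupOfEquivOfLe inf_le_right).toEquiv
  have hA : 2 * Nat.card (alternatingGroup (Fin m)) = m.factorial := by
    haveI : Nontrivial (Fin m) := Fin.nontrivial_iff_two_le.2 (by omega)
    rw [Nat.card_eq_fintype_card, two_mul_card_alternatingGroup, Fintype.card_perm, Fintype.card_fin]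
  have hidx := H.card_mul_index
  have hi1 : H.index ≠ 1 := fun e => hH (Subgroup.index_eq_one.1 e)
  have hdiv := card_dvd_factorial_index hH
  interval_cases m
  · by_contra hcon
    push Not at hcon
    have a3 := sub_le_of_odd K (by norm_num) (by norm_num) (hcon 3 (by norm_num) (by norm_num) (by norm_num))
    have a5 := sub_le_of_odd K (by norm_num) (by norm_num) (hcon 5 (by norm_num) (by norm_num) (by norm_num))
    have h15 : 15 ∣ Nat.card H := hHc ▸ Nat.Coprime.mul_dvd_of_dvd_of_dvd (by norm_num : Nat.Coprime 3 5) a3 a5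
    have hA' : Nat.card (alternatingGroup (Fin 5)) = 60 := by
      rw [show Nat.factorial 5 = 2 * 60 from rfl] at hA
      exact Nat.eq_of_mul_eq_mul_left two_pos hA
    rw [hA'] at hidx hdiv
    obtain ⟨c, hc⟩ := h15
    rw [hc, mul_assoc] at hidx
    have hk : H.index ∣ 4 := ⟨c, by rw [mul_comm H.index c]; omega⟩
    have := Nat.le_of_dvd (by norm_num) hk
    interval_cases H.index <;> simp_all [Nat.factorial] <;> omega
  · exact absurd rfl h6
  · by_contra hcon
    push Not at hcon
    have a5 := sub_le_of_odd K (by norm_num) (by norm_num) (hcon 5 (by norm_num) (by norm_num) (by norm_num))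
    have a7 := sub_le_of_odd K (by norm_num) (by norm_num) (hcon 7 (by norm_num) (by norm_num) (by norm_num))
    have h210 : 210 ∣ Nat.card H := hHc ▸ three_transitive_seven _ a5 a7
    have hA' : Nat.card (alternatingGroup (Fin 7)) = 2520 := by
      rw [show Nat.factorial 7 = 2 * 2520 from rfl] at hA
      exact Nat.eq_of_mul_eq_mul_left two_pos hA
    rw [hA'] at hidx hdiv
    obtain ⟨c, hc⟩ := h210
    rw [hc, mul_assoc] at hidx
    have hk : H.index ∣ 12 := ⟨c, by rw [mul_comm H.index c]; omega⟩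
    have := Nat.le_of_dvd (by norm_num) hk
    have hc1 : c = 1 := by
      interval_cases H.index <;> simp_all [Nat.factorial] <;> omega
    subst hc1
    obtain ⟨L, -, hLc⟩ := exists_index_two (A := (K ⊓ alternatingGroup (Fin 7) : Subgroup (Perm (Fin 7))))
      (u := 105) ⟨52, rfl⟩ (by rw [← hHc, hc])
    have hL : Nat.card (L.map (Subgroup.subtype _)) = 105 := by
      rw [Subgroup.card_map_of_injective (Subgroup.subtype_injective _), hLc]
    have := three_transitive_seven (L.map (Subgroup.subtype _)) (hL ▸ by norm_num) (hL ▸ by norm_num)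
    rw [hL] at this
    norm_num at this

theorem exists_even_eq {D D' : Finset (Fin m)} (hcard : D.card = D'.card) (h2 : D.card + 2 ≤ m) :
    ∃ σ ∈ alternatingGroup (Fin m), D.map σ.toEmbedding = D' := by
  obtain ⟨σ, hσ⟩ : ∃ σ : Perm (Fin m), D.map σ.toEmbedding = D' := by
    let e : {x // x ∈ D} ≃ {x // x ∈ D'} := Fintype.equivOfCardEq (by simpa using hcard)
    refine ⟨e.extendSubtype, ?_⟩
    refine Finset.eq_of_subset_of_card_le (fun x hx => ?_) (by simp [hcard])
    obtain ⟨y, hy, rfl⟩ := Finset.mem_map.1 hx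
    exact e.extendSubtype_mem y hy
  rcases Int.units_eq_one_or (Perm.sign σ) with h | h
  · exact ⟨σ, Perm.mem_alternatingGroup.2 h, hσ⟩
  obtain ⟨a, ha, b, hb, hab⟩ := Finset.one_lt_card.1
    (show 1 < Dᶜ.card by rw [Finset.card_compl, Fintype.card_fin]; omega)
  rw [Finset.mem_compl] at ha hb
  refine ⟨σ * swap a b, ?_, ?_⟩
  · rw [Perm.mem_alternatingGroup, map_mul, Perm.sign_swap hab, h]; rfl
  · rw [← hσ]
    ext z
    simp only [Finset.mem_map, Equiv.coe_toEmbedding, Perm.mul_apply]
    constructor <;> rintro ⟨w, hw, rfl⟩ <;> refine ⟨w, hw, ?_⟩ <;>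
      rw [swap_apply_of_ne_of_ne (by rintro rfl; exact ha hw) (by rintro rfl; exact hb hw)]

/-- An even permutation of prime order `r` with at most `m % r` fixed points. -/
theorem exists_element {r : ℕ} (hr : r.Prime) (hrm : r ≤ m) (h2 : r = 2 → 4 ∣ m) :
    ∃ σ ∈ alternatingGroup (Fin m), orderOf σ = r ∧ σ.supportᶜ.card ≤ m % r := by
  obtain ⟨σ, hσ⟩ := (Perm.exists_with_cycleType_iff (α := Fin m) (m := Multiset.replicate (m / r) r)).2
    ⟨by simpa using Nat.div_mul_le_self m r, fun a ha => by rw [Multiset.eq_of_mem_replicate ha]; exact hr.two_le⟩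
  have hc : 0 < m / r := Nat.div_pos hrm hr.pos
  refine ⟨σ, ?_, ?_, ?_⟩
  · rw [Perm.mem_alternatingGroup, Perm.sign_of_cycleType, hσ, Multiset.sum_replicate, Multiset.card_replicate]
    refine Even.neg_one_pow ?_
    rcases hr.eq_two_or_odd' with rfl | ho
    · obtain ⟨a, rfl⟩ := h2 rfl
      exact ⟨3 * a, by rw [show 4 * a / 2 = 2 * a by omega, smul_eq_mul]; ring⟩
    · obtain ⟨a, rfl⟩ := ho
      exact ⟨m / (2 * a + 1) * (a + 1), by rw [smul_eq_mul]; ring⟩
  · rw [← Perm.lcm_cycleType, hσ]
    apply Nat.dvd_antisymm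
    · exact Multiset.lcm_dvd.2 fun a ha => by rw [Multiset.eq_of_mem_replicate ha]
    · exact Multiset.dvd_lcm (Multiset.mem_replicate.2 ⟨hc.ne', rfl⟩)
  · rw [Finset.card_compl, ← Perm.sum_cycleType, hσ, Multiset.sum_replicate, Fintype.card_fin, smul_eq_mul]
    have := Nat.div_add_mod m r
    rw [mul_comm] at this
    omega

theorem not_fix {r : ℕ} (hr : r.Prime) {σ : Perm (Fin m)} (hσ : orderOf σ = r)
    (hfix : σ.supportᶜ.card ≤ m % r) {D : Finset (Fin m)} (hk : m % r < D.card % r) :
    D.map σ.toEmbedding ≠ D := by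
  intro hD
  haveI := Fact.mk hr
  have hmem : ∀ x, σ x ∈ D ↔ x ∈ D := fun x => by
    conv_lhs => rw [← hD]
    simp
  let τ : Perm {x // x ∈ D} := σ.subtypePerm hmem
  have hτ : τ ^ r ^ 1 = 1 := by
    rw [pow_one, Perm.subtypePerm_pow]
    ext x
    rw [Perm.subtypePerm_apply, ← hσ]
    simp [pow_orderOf_eq_one]
  have h1 := Perm.card_compl_support_modEq hτ
  have h2 : τ.supportᶜ.card ≤ m % r := by
    refine le_trans ?_ hfix
    refine Finset.card_le_card_of_injOn Subtype.val (fun x hx => ?_) Subtype.val_injective.injOn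
    simp only [Finset.coe_compl, Set.mem_compl_iff, Finset.mem_coe, Perm.mem_support, not_not] at hx ⊢
    simpa [τ, Subtype.ext_iff] using hx
  rw [Fintype.card_coe] at h1
  have h3 : τ.supportᶜ.card % r = D.card % r := h1
  rw [Nat.mod_eq_of_lt (h2.trans_lt (Nat.mod_lt _ hr.pos))] at h3
  omega

end CfsgLib.Perm.AltDerange
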